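import Mathlib.Algebra.Homology.HomotopyCategory.MappingCocone
import Mathlib.Algebra.Homology.HomologicalComplexBiprod
import Mathlib.Algebra.Homology.HomotopyCategory.Pretriangulated
import Mathlib.Algebra.Homology.Embedding.CochainComplex

/-!
# Factorizations of morphisms of complexes over an additive category

* a morphism is a homotopy equivalence followed by a termwise split surjection;
* a morphism is a termwise split injection followed by a homotopy equivalence.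
-/

set_option autoImplicit false

universe v u

open CategoryTheory CategoryTheory.Limits CochainComplex

namespace K235.Factor

variable {V : Type u} [Category.{v} V] [Preadditive V] [HasBinaryBiproducts V]

section

variable (K P : CochainComplex V ℤ)

/-- adding a contractible complex -/
lemma homotopy_fst_inl (h : Homotopy (𝟙 P) 0) :
    Nonempty (Homotopy ((biprod.fst : K ⊞ P ⟶ K) ≫ biprod.inl) (𝟙 (K ⊞ P))) := by
  let h₁ := (h.compRight (biprod.inr : P ⟶ K ⊞ P)).compLeft (biprod.snd : K ⊞ P ⟶ _)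
  let h₂ := Homotopy.add h₁ (Homotopy.refl ((biprod.fst : K ⊞ P ⟶ K) ≫ biprod.inl))
  exact ⟨(Homotopy.ofEq (by simp)).trans (h₂.symm.trans (Homotopy.ofEq (by
    rw [add_comm]; simp)))⟩

/-- the projection from the sum with a contractible complex is a homotopy equivalence -/
noncomputable def homotopyEquivSnd (h : Homotopy (𝟙 P) 0) : HomotopyEquiv (P ⊞ K) K where
  hom := biprod.snd
  inv := biprod.inr
  homotopyHomInvId :=
    let h₁ := (h.compRight (biprod.inl : P ⟶ P ⊞ K)).compLeft (biprod.fst : P ⊞ K ⟶ _)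
    let h₂ := Homotopy.add h₁ (Homotopy.refl ((biprod.snd : P ⊞ K ⟶ K) ≫ biprod.inr))
    (Homotopy.ofEq (by simp)).trans (h₂.symm.trans (Homotopy.ofEq (by simp)))
  homotopyInvHomId := Homotopy.ofEq (by simp)

lemma isZero_biprod_X (n : ℤ) (hK : IsZero (K.X n)) (hP : IsZero (P.X n)) :
    IsZero ((K ⊞ P).X n) := by
  rw [IsZero.iff_id_eq_zero, ← HomologicalComplex.biprod_total_f,
    hK.eq_of_tgt ((biprod.fst : K ⊞ P ⟶ K).f n) 0,
    hP.eq_of_tgt ((biprod.snd : K ⊞ P ⟶ P).f n) 0, zero_comp, zero_comp, add_zero]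

end

section

variable {K L : CochainComplex V ℤ}

lemma contractible_mappingCocone_id (L : CochainComplex V ℤ) :
    Nonempty (Homotopy (𝟙 (mappingCocone (𝟙 L))) 0) :=
  ⟨(Homotopy.ofEq (CategoryTheory.Functor.map_id _ _).symm).trans
    (((mappingCone.homotopyToZeroOfId L).shift (-1)).trans
      (Homotopy.ofEq (CategoryTheory.Functor.map_zero _ _ _)))⟩

lemma isZero_mappingCocone_X {K L : CochainComplex V ℤ} (φ : K ⟶ L) (n : ℤ)
    (hK : IsZero (K.X n)) (hL : IsZero (L.X (n + -1))) : IsZero ((mappingCocone φ).X n) := by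
  rw [IsZero.iff_id_eq_zero, ← mappingCocone.id_X φ n (n + -1) rfl,
    hK.eq_of_tgt ((mappingCocone.fst φ).f n) 0,
    hL.eq_of_tgt ((mappingCocone.snd φ).v n (n + -1) rfl) 0, zero_comp, zero_comp, add_zero]

lemma iso_of_split {A B C : V} (φ : A ⟶ B) (σ : B ⟶ A) (j : C ⟶ A) (r : A ⟶ C)
    (h1 : σ ≫ φ = 𝟙 B) (h2 : j ≫ φ = 0) (h3 : j ≫ r = 𝟙 C) (h4 : σ ≫ r = 0)
    (h5 : r ≫ j + φ ≫ σ = 𝟙 A) : ∃ e : A ≅ C ⊞ B, e.inv ≫ φ = biprod.snd := by
  refine ⟨{ hom := biprod.lift r φ, inv := biprod.desc j σ, hom_inv_id := ?_, inv_hom_id := ?_ }, ?_⟩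
  · rw [biprod.lift_desc, h5]
  · ext <;> simp [h1, h2, h3, h4]
  · ext <;> simp [h1, h2]

lemma exists_iso (α : K ⟶ L) (n : ℤ) :
    ∃ (C : V) (e : (K ⊞ mappingCocone (𝟙 L)).X n ≅ C ⊞ L.X n),
      e.inv ≫ (biprod.desc α (mappingCocone.fst (𝟙 L)) : K ⊞ mappingCocone (𝟙 L) ⟶ L).f n =
        biprod.snd := by
  let P := mappingCocone (𝟙 L)
  have e1 := mappingCocone.inl_v_fst_f (𝟙 L) n
  have e2 := mappingCocone.inl_v_snd_v (𝟙 L) n (n + -1) rfl
  have e3 := mappingCocone.inr_v_fst_f (𝟙 L) (n + -1) n (by lia)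
  have e4 := mappingCocone.inr_v_snd_v (𝟙 L) (n + -1) n (by lia)
  have e5 := mappingCocone.id_X (𝟙 L) n (n + -1) rfl
  have a1 : (biprod.inl : K ⟶ K ⊞ P).f n ≫
      (biprod.desc α (mappingCocone.fst (𝟙 L)) : K ⊞ P ⟶ L).f n = α.f n := by
    rw [← HomologicalComplex.comp_f, biprod.inl_desc]
  have a2 : (biprod.inr : P ⟶ K ⊞ P).f n ≫
      (biprod.desc α (mappingCocone.fst (𝟙 L)) : K ⊞ P ⟶ L).f n =
        (mappingCocone.fst (𝟙 L)).f n := by
    rw [← HomologicalComplex.comp_f, biprod.inr_desc]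
  have b1 := HomologicalComplex.biprod_inl_fst_f K P n
  have b2 := HomologicalComplex.biprod_inl_snd_f K P n
  have b3 := HomologicalComplex.biprod_inr_fst_f K P n
  have b4 := HomologicalComplex.biprod_inr_snd_f K P n
  have b5 := HomologicalComplex.biprod_total_f K P n
  generalize (biprod.inl : K ⟶ K ⊞ P).f n = i₁ at *
  generalize (biprod.inr : P ⟶ K ⊞ P).f n = i₂ at *
  generalize (biprod.fst : K ⊞ P ⟶ K).f n = p₁ at *
  generalize (biprod.snd : K ⊞ P ⟶ P).f n = p₂ at *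
  generalize (mappingCocone.inl (𝟙 L)).v n n _ = inlv at *
  generalize (mappingCocone.inr (𝟙 L)).1.v (n + -1) n _ = inrv at *
  generalize (mappingCocone.snd (𝟙 L)).v n (n + -1) _ = sndv at *
  generalize (mappingCocone.fst (𝟙 L)).f n = fstv at *
  have a3 : (biprod.desc α (mappingCocone.fst (𝟙 L)) : K ⊞ P ⟶ L).f n =
      p₁ ≫ α.f n + p₂ ≫ fstv := by
    rw [← Category.id_comp ((biprod.desc α (mappingCocone.fst (𝟙 L)) : K ⊞ P ⟶ L).f n), ← b5,
      Preadditive.add_comp, Category.assoc, Category.assoc, a1, a2]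
  obtain ⟨e, he⟩ := iso_of_split
    ((biprod.desc α (mappingCocone.fst (𝟙 L)) : K ⊞ P ⟶ L).f n) (inlv ≫ i₂)
    (biprod.desc (i₁ - α.f n ≫ inlv ≫ i₂) (inrv ≫ i₂)) (biprod.lift p₁ (p₂ ≫ sndv))
    (by rw [Category.assoc, a2, e1])
    (by
      ext
      · simp [a1, a2, e1]
      · simp [a2, e3])
    (by
      ext
      · simp [b1, b3]
      · simp [reassoc_of% b2, reassoc_of% b4, e2]
      · simp [b3]
      · simp [reassoc_of% b4, e4])
    (by
      ext
      · simp [b3]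
      · simp [reassoc_of% b4, e2])
    (by
      rw [biprod.lift_desc, a3, ← b5]
      have : p₂ = p₂ ≫ (fstv ≫ inlv + sndv ≫ inrv) := by rw [e5, Category.comp_id]
      conv_rhs => rw [this]
      simp only [Preadditive.comp_sub, Preadditive.add_comp, Preadditive.comp_add, Category.assoc]
      abel)
  exact ⟨_, e, he⟩

lemma iso_of_split' {A E C : V} (ι : A ⟶ E) (r : E ⟶ A) (j : C ⟶ E) (q : E ⟶ C)
    (h1 : ι ≫ r = 𝟙 A) (h2 : ι ≫ q = 0) (h3 : j ≫ r = 0) (h4 : j ≫ q = 𝟙 C)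
    (h5 : r ≫ ι + q ≫ j = 𝟙 E) : ∃ ε : E ≅ A ⊞ C, ι ≫ ε.hom = biprod.inl := by
  refine ⟨{ hom := biprod.lift r q, inv := biprod.desc ι j, hom_inv_id := ?_, inv_hom_id := ?_ }, ?_⟩
  · rw [biprod.lift_desc, h5]
  · ext <;> simp [h1, h2, h3, h4]
  · ext <;> simp [h1, h2]

lemma exists_iso' {B X : CochainComplex V ℤ} (f : B ⟶ X) (n : ℤ) :
    ∃ (C : V) (ε : (mappingCone (𝟙 B) ⊞ X).X n ≅ B.X n ⊞ C),
      (biprod.lift (mappingCone.inr (𝟙 B)) f : B ⟶ mappingCone (𝟙 B) ⊞ X).f n ≫ ε.hom =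
        biprod.inl := by
  let P := mappingCone (𝟙 B)
  have e1 := mappingCone.inr_f_snd_v (𝟙 B) n
  have e2 := mappingCone.inr_f_fst_v (𝟙 B) n (n + 1) rfl
  have e3 := mappingCone.inl_v_snd_v (𝟙 B) (n + 1) n (by lia)
  have e4 := mappingCone.inl_v_fst_v (𝟙 B) (n + 1) n (by lia)
  have e5 := mappingCone.id_X (𝟙 B) n (n + 1) rfl
  have a1 : (biprod.lift (mappingCone.inr (𝟙 B)) f : B ⟶ P ⊞ X).f n ≫
      (biprod.fst : P ⊞ X ⟶ P).f n = (mappingCone.inr (𝟙 B)).f n := by
    rw [← HomologicalComplex.comp_f, biprod.lift_fst]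
  have a2 : (biprod.lift (mappingCone.inr (𝟙 B)) f : B ⟶ P ⊞ X).f n ≫
      (biprod.snd : P ⊞ X ⟶ X).f n = f.f n := by
    rw [← HomologicalComplex.comp_f, biprod.lift_snd]
  have b1 := HomologicalComplex.biprod_inl_fst_f P X n
  have b2 := HomologicalComplex.biprod_inl_snd_f P X n
  have b3 := HomologicalComplex.biprod_inr_fst_f P X n
  have b4 := HomologicalComplex.biprod_inr_snd_f P X n
  have b5 := HomologicalComplex.biprod_total_f P X n
  generalize (biprod.inl : P ⟶ P ⊞ X).f n = i₁ at *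
  generalize (biprod.inr : X ⟶ P ⊞ X).f n = i₂ at *
  generalize (biprod.fst : P ⊞ X ⟶ P).f n = p₁ at *
  generalize (biprod.snd : P ⊞ X ⟶ X).f n = p₂ at *
  generalize (mappingCone.inl (𝟙 B)).v (n + 1) n _ = inlv at *
  generalize (mappingCone.fst (𝟙 B)).1.v n (n + 1) _ = fstv at *
  generalize (mappingCone.snd (𝟙 B)).v n n _ = sndv at *
  generalize (mappingCone.inr (𝟙 B)).f n = inrf at *
  have a3 : (biprod.lift (mappingCone.inr (𝟙 B)) f : B ⟶ P ⊞ X).f n =
      inrf ≫ i₁ + f.f n ≫ i₂ := by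
    rw [← Category.comp_id ((biprod.lift (mappingCone.inr (𝟙 B)) f : B ⟶ P ⊞ X).f n), ← b5,
      Preadditive.comp_add, reassoc_of% a1, reassoc_of% a2]
  obtain ⟨e, he⟩ := iso_of_split'
    ((biprod.lift (mappingCone.inr (𝟙 B)) f : B ⟶ P ⊞ X).f n) (p₁ ≫ sndv)
    (biprod.desc (inlv ≫ i₁) i₂) (biprod.lift (p₁ ≫ fstv) (p₂ - p₁ ≫ sndv ≫ f.f n))
    (by rw [reassoc_of% a1, e1])
    (by
      ext
      · simp [reassoc_of% a1, e2]
      · simp [reassoc_of% a1, a2, reassoc_of% e1])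
    (by
      ext
      · simp [reassoc_of% b1, e3]
      · simp [reassoc_of% b3])
    (by
      ext
      · simp [reassoc_of% b1, e4]
      · simp [reassoc_of% b1, b2, reassoc_of% e3]
      · simp [reassoc_of% b3]
      · simp [b4, reassoc_of% b3])
    (by
      rw [biprod.lift_desc, a3, ← b5]
      have : p₁ = p₁ ≫ (fstv ≫ inlv + sndv ≫ inrf) := by rw [e5, Category.comp_id]
      conv_rhs => rw [this]
      simp only [Preadditive.sub_comp, Preadditive.add_comp, Preadditive.comp_add, Category.assoc]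
      abel)
  exact ⟨_, e, he⟩

lemma isStrictlyGE_biprod (K P : CochainComplex V ℤ) (a b : ℤ) [K.IsStrictlyGE a]
    [P.IsStrictlyGE b] : (K ⊞ P).IsStrictlyGE (min a b) := by
  rw [CochainComplex.isStrictlyGE_iff]
  intro i hi
  exact isZero_biprod_X K P i (K.isZero_of_isStrictlyGE a i (by lia))
    (P.isZero_of_isStrictlyGE b i (by lia))

lemma isStrictlyLE_biprod (K P : CochainComplex V ℤ) (a b : ℤ) [K.IsStrictlyLE a]
    [P.IsStrictlyLE b] : (K ⊞ P).IsStrictlyLE (max a b) := by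
  rw [CochainComplex.isStrictlyLE_iff]
  intro i hi
  exact isZero_biprod_X K P i (K.isZero_of_isStrictlyLE a i (by lia))
    (P.isZero_of_isStrictlyLE b i (by lia))

lemma isStrictlyGE_cone (K : CochainComplex V ℤ) (a : ℤ) [K.IsStrictlyGE a] :
    (mappingCone (𝟙 K)).IsStrictlyGE (a - 1) := by
  rw [CochainComplex.isStrictlyGE_iff]
  intro i hi
  simp only [mappingCone.isZero_X_iff]
  exact ⟨K.isZero_of_isStrictlyGE a _ (by lia), K.isZero_of_isStrictlyGE a _ (by lia)⟩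

lemma isStrictlyLE_cone (K : CochainComplex V ℤ) (a : ℤ) [K.IsStrictlyLE a] :
    (mappingCone (𝟙 K)).IsStrictlyLE a := by
  rw [CochainComplex.isStrictlyLE_iff]
  intro i hi
  simp only [mappingCone.isZero_X_iff]
  exact ⟨K.isZero_of_isStrictlyLE a _ (by lia), K.isZero_of_isStrictlyLE a _ (by lia)⟩

lemma isStrictlyGE_cocone (K : CochainComplex V ℤ) (a : ℤ) [K.IsStrictlyGE a] :
    (mappingCocone (𝟙 K)).IsStrictlyGE a := by
  rw [CochainComplex.isStrictlyGE_iff]
  intro i hi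
  exact isZero_mappingCocone_X _ _ (K.isZero_of_isStrictlyGE a _ (by lia))
    (K.isZero_of_isStrictlyGE a _ (by lia))

lemma isStrictlyLE_cocone (K : CochainComplex V ℤ) (a : ℤ) [K.IsStrictlyLE a] :
    (mappingCocone (𝟙 K)).IsStrictlyLE (a + 1) := by
  rw [CochainComplex.isStrictlyLE_iff]
  intro i hi
  exact isZero_mappingCocone_X _ _ (K.isZero_of_isStrictlyLE a _ (by lia))
    (K.isZero_of_isStrictlyLE a _ (by lia))

end

end K235.Factor
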