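import Mathlib.Algebra.Homology.HomotopyCategory.HomologicalFunctor
import Mathlib.Algebra.Homology.HomotopyCategory.ShiftSequence
import Mathlib.Algebra.Homology.HomotopyCategory.Triangulated
import Mathlib.Algebra.Homology.DerivedCategory.KProjective
import Mathlib.Algebra.Homology.Embedding.CochainComplex

/-!
# Lifting morphisms from K-projective complexes

* homology of mapping cones;
* lifts along quasi-isomorphisms up to homotopy;
* lifts of a bounded complex of projectives in degrees `≥ n` along a morphism which is an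
  isomorphism on `Hⁱ` for `i > n` and an epimorphism on `Hⁿ`.
-/

set_option autoImplicit false

universe v u

open CategoryTheory CategoryTheory.Limits Pretriangulated

namespace K235.KProjLift

section Abstract

variable {T A : Type*} [Category* T] [Category* A] [HasShift T ℤ] [HasZeroObject T] [Preadditive T]
  [∀ n : ℤ, (shiftFunctor T n).Additive] [Pretriangulated T] [Abelian A]

/-- The third vertex has vanishing `H^n` iff `H^n` of the first map is epi and `H^{n+1}` is mono. -/
theorem isZero_shift_obj₃_iff (F : T ⥤ A) [F.IsHomological] [F.ShiftSequence ℤ] (S : Triangle T)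
    (hS : S ∈ distTriang T) (n₀ n₁ : ℤ) (h : n₀ + 1 = n₁) :
    IsZero ((F.shift n₀).obj S.obj₃) ↔
      Epi ((F.shift n₀).map S.mor₁) ∧ Mono ((F.shift n₁).map S.mor₁) := by
  rw [(F.homologySequence_exact₃ _ hS n₀ n₁ h).isZero_X₂_iff,
    F.homologySequence_epi_shift_map_mor₁_iff _ hS n₀,
    F.homologySequence_mono_shift_map_mor₁_iff _ hS n₀ n₁ h]

variable {G F : CochainComplex A ℤ}

theorem isZero_homology_mappingCone_iff (f : G ⟶ F) (n₀ n₁ : ℤ) (h : n₀ + 1 = n₁) :
    IsZero ((CochainComplex.mappingCone f).homology n₀) ↔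
      Epi (HomologicalComplex.homologyMap f n₀) ∧ Mono (HomologicalComplex.homologyMap f n₁) := by
  have h1 := isZero_shift_obj₃_iff (HomotopyCategory.homologyFunctor A (ComplexShape.up ℤ) 0)
    (CochainComplex.mappingCone.triangleh f) (HomotopyCategory.mappingCone_triangleh_distinguished f) n₀ n₁ h
  have e := fun n => HomotopyCategory.homologyFunctorFactors A (ComplexShape.up ℤ) n
  have h2 : IsZero (((HomotopyCategory.homologyFunctor A (ComplexShape.up ℤ) 0).shift n₀).obj
      (CochainComplex.mappingCone.triangleh f).obj₃) ↔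
      IsZero ((CochainComplex.mappingCone f).homology n₀) :=
    Iso.isZero_iff ((e n₀).app (CochainComplex.mappingCone f))
  have h3 : Epi (((HomotopyCategory.homologyFunctor A (ComplexShape.up ℤ) 0).shift n₀).map
      (CochainComplex.mappingCone.triangleh f).mor₁) ↔
      Epi (HomologicalComplex.homologyMap f n₀) :=
    (MorphismProperty.epimorphisms A).arrow_mk_iso_iff
      ((Functor.mapArrowFunctor _ _ |>.mapIso (e n₀)).app (Arrow.mk f))
  have h4 : Mono (((HomotopyCategory.homologyFunctor A (ComplexShape.up ℤ) 0).shift n₁).map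
      (CochainComplex.mappingCone.triangleh f).mor₁) ↔
      Mono (HomologicalComplex.homologyMap f n₁) :=
    (MorphismProperty.monomorphisms A).arrow_mk_iso_iff
      ((Functor.mapArrowFunctor _ _ |>.mapIso (e n₁)).app (Arrow.mk f))
  rw [← h2, h1, h3, h4]

end Abstract

variable {C : Type u} [Category.{v} C] [Abelian C]

section

open DerivedCategory

variable {A B P : CochainComplex C ℤ}

attribute [local instance] HasDerivedCategory.standard in
/-- Lifts of morphisms from K-projective complexes along quasi-isomorphisms. -/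
lemma exists_lift [P.IsKProjective] (s : A ⟶ B) [QuasiIso s] (f : P ⟶ B) :
    ∃ g : P ⟶ A, Nonempty (Homotopy (g ≫ s) f) := by
  obtain ⟨g, hg⟩ := (CochainComplex.IsKProjective.Qh_map_bijective P _).surjective
    ((quotientCompQhIso C).hom.app P ≫ Q.map f ≫ inv (Q.map s) ≫
      (quotientCompQhIso C).inv.app A)
  obtain ⟨g, rfl⟩ := (HomotopyCategory.quotient _ _).map_surjective g
  refine ⟨g, ⟨HomotopyCategory.homotopyOfEq _ _ ?_⟩⟩
  apply (CochainComplex.IsKProjective.Qh_map_bijective _ _).injective
  simp only [Functor.map_comp, hg]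
  have h1 := (quotientCompQhIso C).inv.naturality s
  have h2 := (quotientCompQhIso C).hom.naturality f
  dsimp at h1 h2
  simp only [Category.assoc]
  rw [← h1, IsIso.inv_hom_id_assoc, ← reassoc_of% h2]
  simp

end

/-- A morphism from a complex of projectives in degrees `[n, b]` to a complex with homology
in degrees `< n` is homotopic to zero. -/
lemma homotopy_zero {P K : CochainComplex C ℤ} (n : ℤ) [P.IsStrictlyGE n] [P.IsKProjective]
    [K.IsLE (n - 1)] (f : P ⟶ K) : Nonempty (Homotopy f 0) := by
  obtain ⟨g, ⟨h⟩⟩ := exists_lift (K.ιTruncLE (n - 1)) f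
  have hg : g = 0 := by
    ext i
    by_cases hi : n ≤ i
    · exact ((K.truncLE (n - 1)).isZero_of_isStrictlyLE (n - 1) i (by lia)).eq_of_tgt _ _
    · exact (P.isZero_of_isStrictlyGE n i (by lia)).eq_of_src _ _
  subst hg
  exact ⟨h.symm.trans (Homotopy.ofEq zero_comp)⟩

theorem exists_lift_of_homology {P E L : CochainComplex C ℤ} (β : P ⟶ L) (α : E ⟶ L) (n : ℤ)
    [P.IsStrictlyGE n] [P.IsKProjective]
    (hmono : ∀ i : ℤ, n < i → Mono (HomologicalComplex.homologyMap α i))
    (hepi : ∀ i : ℤ, n ≤ i → Epi (HomologicalComplex.homologyMap α i)) :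
    ∃ γ : P ⟶ E, Nonempty (Homotopy (γ ≫ α) β) := by
  have h1 : (CochainComplex.mappingCone α).IsLE (n - 1) := by
    rw [CochainComplex.isLE_iff]
    intro i hi
    rw [HomologicalComplex.exactAt_iff_isZero_homology,
      isZero_homology_mappingCone_iff α i (i + 1) rfl]
    exact ⟨hepi i (by lia), hmono (i + 1) (by lia)⟩
  obtain ⟨h⟩ := homotopy_zero n (β ≫ CochainComplex.mappingCone.inr α)
  have h2 := HomotopyCategory.eq_of_homotopy _ _ h
  rw [Functor.map_comp, Functor.map_zero] at h2
  obtain ⟨g, hg⟩ := Pretriangulated.Triangle.coyoneda_exact₂ _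
    (HomotopyCategory.mappingCone_triangleh_distinguished α)
    ((HomotopyCategory.quotient _ _).map β) h2
  obtain ⟨γ, rfl⟩ := (HomotopyCategory.quotient _ _).map_surjective g
  refine ⟨γ, ⟨HomotopyCategory.homotopyOfEq _ _ ?_⟩⟩
  rw [Functor.map_comp]
  exact hg.symm

end K235.KProjLift
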