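import Mathlib.CategoryTheory.Localization.DerivabilityStructure.Constructor
import Mathlib.CategoryTheory.Localization.CalculusOfFractions.Fractions

/-!
# Localization of a full subcategory with enough left resolutions

Let `W` be a class of morphisms of a category `C` with a right calculus of fractions and `P` a
property of objects such that every object `X` admits a morphism `J ⟶ X` in `W` with `P J`.
Then the localization of `C` at `W` restricts to a localization of the full subcategory `P` at
the morphisms which are in `W`.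
-/

set_option autoImplicit false

open CategoryTheory Category Localization

namespace K235.LeftResLoc

variable {C : Type*} [Category* C] (W : MorphismProperty C) (P : ObjectProperty C)

section

variable (hres : ∀ X : C, ∃ (J : C) (w : J ⟶ X), P J ∧ W w) [W.HasRightCalculusOfFractions]

include hres in
lemma hasRightCalculus : (W.inverseImage P.ι).HasRightCalculusOfFractions where
  exists_rightFraction := by
    rintro X Y ⟨f, s, hs⟩
    obtain ⟨ψ, hψ⟩ := MorphismProperty.LeftFraction.exists_rightFraction
      (W := W) (MorphismProperty.LeftFraction.mk f.hom s.hom hs)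
    obtain ⟨J, w, hJ, hw⟩ := hres ψ.X'
    refine ⟨{ X' := ⟨J, hJ⟩
              s := P.homMk (w ≫ ψ.s)
              hs := W.comp_mem _ _ hw ψ.hs
              f := P.homMk (w ≫ ψ.f) }, ?_⟩
    ext
    have := w ≫= hψ
    simpa using this
  ext := by
    intro X Y Y' f₁ f₂ s hs h
    obtain ⟨X', t, ht, h'⟩ := MorphismProperty.HasRightCalculusOfFractions.ext (W := W)
      f₁.hom f₂.hom s.hom hs (by
        have := congr_arg (fun f => f.hom) h
        simpa using this)
    obtain ⟨J, w, hJ, hw⟩ := hres X'
    refine ⟨⟨J, hJ⟩, P.homMk (w ≫ t), W.comp_mem _ _ hw ht, ?_⟩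
    ext
    have := w ≫= h'
    simpa using this

variable {E : Type*} [Category* E] (L : C ⥤ E) [L.IsLocalization W]

include hres in
theorem isLocalization : (P.ι ⋙ L).IsLocalization (W.inverseImage P.ι) := by
  have := hasRightCalculus W P hres
  let L₁ := (W.inverseImage P.ι).Q
  have hinv : (W.inverseImage P.ι).IsInvertedBy (P.ι ⋙ L) :=
    fun X Y f hf => Localization.inverts L W f.hom hf
  let F : (W.inverseImage P.ι).Localization ⥤ E := Localization.lift (P.ι ⋙ L) hinv L₁
  let e : P.ι ⋙ L ≅ L₁ ⋙ F := (Localization.fac (P.ι ⋙ L) hinv L₁).symm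
  have : L₁.EssSurj := Localization.essSurj L₁ (W.inverseImage P.ι)
  have hfull : F.Full := by
    refine F.full_of_comp_essSurj L₁ (fun X₁ X₂ φ ↦ ?_)
    obtain ⟨φ', hφ'⟩ : ∃ φ', φ = e.inv.app X₁ ≫ φ' ≫ e.hom.app X₂ :=
      ⟨e.hom.app X₁ ≫ φ ≫ e.inv.app X₂, by
        simp [dsimp% e.inv_hom_id_app_assoc, dsimp% e.inv_hom_id_app]⟩
    obtain ⟨f, hf⟩ := Localization.exists_rightFraction L W φ'
    obtain ⟨J, w, hJ, hw⟩ := hres f.X'
    let g : (W.inverseImage P.ι).RightFraction X₁ X₂ :=
      { X' := ⟨J, hJ⟩
        s := P.homMk (w ≫ f.s)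
        hs := W.comp_mem _ _ hw f.hs
        f := P.homMk (w ≫ f.f) }
    have := Localization.inverts L₁ _ _ g.hs
    refine ⟨g.map L₁ (Localization.inverts _ _), ?_⟩
    rw [← cancel_epi (F.map (L₁.map g.s)), ← Functor.map_comp,
      MorphismProperty.RightFraction.map_s_comp_map]
    have h1 : F.map (L₁.map g.f) = e.inv.app ⟨J, hJ⟩ ≫ L.map (w ≫ f.f) ≫ e.hom.app X₂ := by
      have := e.hom.naturality g.f
      dsimp at this
      rw [← dsimp% e.inv_hom_id_app_assoc ⟨J, hJ⟩ (F.map (L₁.map g.f)), ← this]
      rfl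
    have h2 : F.map (L₁.map g.s) ≫ e.inv.app X₁ = e.inv.app ⟨J, hJ⟩ ≫ L.map (w ≫ f.s) := by
      have := e.inv.naturality g.s
      dsimp at this
      rw [this]
      rfl
    rw [h1, hφ', reassoc_of% h2, hf]
    simp
  have hfaithful : F.Faithful := by
    have : F.op.Faithful := by
      refine Functor.faithful_of_comp_of_hasLeftCalculusOfFractions L₁.op
        (W.inverseImage P.ι).op F.op (fun X₁ X₂ f g hf ↦ ?_)
      replace hf : L.map f.unop.hom = L.map g.unop.hom := by
        have hf' : F.map (L₁.map f.unop) = F.map (L₁.map g.unop) := Quiver.Hom.op_inj hf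
        have h1 := e.hom.naturality f.unop
        have h2 := e.hom.naturality g.unop
        dsimp at h1 h2
        rw [hf', ← h2] at h1
        exact (cancel_mono (e.hom.app X₁.unop)).1 h1
      rw [MorphismProperty.map_eq_iff_precomp L W] at hf
      obtain ⟨X₃, s, hs, fac⟩ := hf
      obtain ⟨J, w, hJ, hw⟩ := hres X₃
      apply Quiver.Hom.unop_inj
      change L₁.map f.unop = L₁.map g.unop
      rw [MorphismProperty.map_eq_iff_precomp L₁ (W.inverseImage P.ι)]
      let t' : (⟨J, hJ⟩ : P.FullSubcategory) ⟶ X₂.unop := P.homMk (w ≫ s)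
      refine ⟨⟨J, hJ⟩, t', W.comp_mem _ _ hw hs, ?_⟩
      ext
      have := w ≫= fac
      simpa [t'] using this
    exact ⟨fun {X Y f g} h => Quiver.Hom.op_inj (F.op.map_injective (congrArg Quiver.Hom.op h))⟩
  have hess : F.EssSurj := by
    have : L.EssSurj := Localization.essSurj L W
    refine ⟨fun X => ?_⟩
    obtain ⟨J, w, hJ, hw⟩ := hres (L.objPreimage X)
    have := Localization.inverts L W w hw
    exact ⟨L₁.obj ⟨J, hJ⟩, ⟨(e.symm.app ⟨J, hJ⟩) ≪≫ asIso (L.map w) ≪≫ L.objObjPreimageIso X⟩⟩
  have : F.IsEquivalence := { }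
  exact Functor.IsLocalization.of_equivalence_target L₁ (W.inverseImage P.ι) (P.ι ⋙ L)
    F.asEquivalence e.symm

end

end K235.LeftResLoc
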