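import Mathlib.CategoryTheory.Triangulated.Subcategory
import Mathlib.CategoryTheory.Localization.Triangulated
import Mathlib.CategoryTheory.Localization.CalculusOfFractions.Preadditive

/-!
# Zero objects and isomorphisms in localizations of pretriangulated categories

`Q : D ⥤ E` is any localization functor for a multiplicative system compatible with the
triangulation; no structure on `E` is assumed.
-/

set_option autoImplicit false

universe v u v' u'

open CategoryTheory CategoryTheory.Limits CategoryTheory.Pretriangulated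

namespace K235.Loc

section General

variable {D : Type u} [Category.{v} D] (S : MorphismProperty D)
  {E : Type u'} [Category.{v'} E] (Q : D ⥤ E) [Q.IsLocalization S]

/-- the zero objects do not depend on the model of the localization -/
lemma isZero_iff_Q (Z : D) : IsZero (Q.obj Z) ↔ IsZero (S.Q.obj Z) := by
  let e : S.Localization ≌ E := Localization.uniq S.Q Q S
  let i : S.Q ⋙ e.functor ≅ Q := Localization.compUniqFunctor S.Q Q S
  rw [← (i.app Z).isZero_iff]
  exact ⟨fun h => IsZero.of_full_of_faithful_of_isZero e.functor _ h,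
    fun h => IsZero.of_full_of_faithful_of_isZero e.inverse _
      (h.of_iso (e.unitIso.app _).symm)⟩

/-- the morphisms which become invertible do not depend on the model of the localization -/
lemma isIso_iff_Q {X Y : D} (f : X ⟶ Y) : IsIso (Q.map f) ↔ IsIso (S.Q.map f) := by
  let e : S.Localization ≌ E := Localization.uniq S.Q Q S
  let i : S.Q ⋙ e.functor ≅ Q := Localization.compUniqFunctor S.Q Q S
  rw [← NatIso.isIso_map_iff i f]
  exact ⟨fun h => by
    have : IsIso (e.functor.map (S.Q.map f)) := h
    exact isIso_of_reflects_iso (S.Q.map f) e.functor, fun h =>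
    inferInstanceAs (IsIso (e.functor.map (S.Q.map f)))⟩

end General

variable {D : Type u} [Category.{v} D] [Preadditive D] [HasZeroObject D] [HasShift D ℤ]
  [∀ n : ℤ, (shiftFunctor D n).Additive] [Pretriangulated D]
  (S : MorphismProperty D) [S.HasLeftCalculusOfFractions] [S.IsCompatibleWithTriangulation]
  {E : Type u'} [Category.{v'} E] (Q : D ⥤ E) [Q.IsLocalization S]

include S in
lemma isZero_obj_of_isZero {Z : D} (hZ : IsZero Z) : IsZero (Q.obj Z) := by
  rw [isZero_iff_Q S Q]
  exact S.Q.map_isZero hZ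

include S in
/-- in a distinguished triangle, the third object becomes zero iff the first morphism becomes
invertible -/
lemma isZero_iff_isIso (T : Triangle D) (hT : T ∈ distTriang D) :
    IsZero (Q.obj T.obj₃) ↔ IsIso (Q.map T.mor₁) := by
  rw [isZero_iff_Q S Q, isIso_iff_Q S Q]
  exact Triangle.isZero₃_iff_isIso₁ _ (S.Q.map_distinguished T hT)

/-- the object `Z` becomes zero iff it is killed by some morphism of `S` -/
lemma isZero_iff_exists (Z : D) : IsZero (Q.obj Z) ↔ ∃ Z' : D, S (0 : Z ⟶ Z') := by
  constructor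
  · intro h
    obtain ⟨Z', s, hs, e⟩ := (MorphismProperty.map_eq_iff_postcomp Q S (𝟙 Z) 0).1 (h.eq_of_src _ _)
    rw [Category.id_comp, zero_comp] at e
    subst e
    exact ⟨Z', hs⟩
  · rintro ⟨Z', hs⟩
    have h : S.Q.map (𝟙 Z) = S.Q.map 0 :=
      (MorphismProperty.map_eq_iff_postcomp S.Q S (𝟙 Z) 0).2 ⟨Z', 0, hs, by simp⟩
    rw [isZero_iff_Q S Q, IsZero.iff_id_eq_zero, ← S.Q.map_id, h, S.Q.map_zero]

lemma isZero_iff_exists' [S.HasRightCalculusOfFractions] (Z : D) :
    IsZero (Q.obj Z) ↔ ∃ Z' : D, S (0 : Z' ⟶ Z) := by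
  constructor
  · intro h
    obtain ⟨Z', s, hs, e⟩ := (MorphismProperty.map_eq_iff_precomp Q S (𝟙 Z) 0).1 (h.eq_of_src _ _)
    rw [Category.comp_id, comp_zero] at e
    subst e
    exact ⟨Z', hs⟩
  · rintro ⟨Z', hs⟩
    have h : S.Q.map (𝟙 Z) = S.Q.map 0 :=
      (MorphismProperty.map_eq_iff_precomp S.Q S (𝟙 Z) 0).2 ⟨Z', 0, hs, by simp⟩
    rw [isZero_iff_Q S Q, IsZero.iff_id_eq_zero, ← S.Q.map_id, h, S.Q.map_zero]

end K235.Loc
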