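import Mathlib.Algebra.Homology.CochainComplexOpposite
import Mathlib.Algebra.Homology.QuasiIso
import Mathlib.Algebra.Homology.Embedding.CochainComplex
import Mathlib.CategoryTheory.Abelian.Opposite

/-!
# Dualising statements about cochain complexes

`opC K` is the cochain complex in `Aᵒᵖ` with `n`-th term `op (K.X (-n))`, `opM φ` its functoriality
(a wrapper around Mathlib's `CochainComplex.opEquivalence`).
-/

set_option autoImplicit false
universe v u
open CategoryTheory CategoryTheory.Limits Opposite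

namespace K235.OpCx

variable {A : Type u} [Category.{v} A]

section ZeroMorphisms

variable [HasZeroMorphisms A]

/-- The opposite of a cochain complex. -/
noncomputable abbrev opC (K : CochainComplex A ℤ) : CochainComplex Aᵒᵖ ℤ :=
  (CochainComplex.opEquivalence A).functor.obj (op K)

/-- The opposite of a morphism of cochain complexes. -/
noncomputable abbrev opM {K L : CochainComplex A ℤ} (φ : K ⟶ L) : opC L ⟶ opC K :=
  (CochainComplex.opEquivalence A).functor.map φ.op

variable {K L M : CochainComplex A ℤ}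

theorem opC_X (n : ℤ) : (opC K).X n = op (K.X (-n)) := rfl

theorem opC_d (i j : ℤ) : (opC K).d i j = (K.d (-j) (-i)).op := rfl

theorem opM_f (φ : K ⟶ L) (n : ℤ) : (opM φ).f n = (φ.f (-n)).op := rfl

theorem opM_comp (φ : K ⟶ L) (ψ : L ⟶ M) : opM (φ ≫ ψ) = opM ψ ≫ opM φ := by
  dsimp only [opM]
  rw [op_comp, Functor.map_comp]

theorem opM_id (K : CochainComplex A ℤ) : opM (𝟙 K) = 𝟙 (opC K) := by
  dsimp only [opM]
  rw [op_id]
  exact CategoryTheory.Functor.map_id _ _

theorem opM_injective {φ ψ : K ⟶ L} (h : opM φ = opM ψ) : φ = ψ :=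
  Quiver.Hom.op_inj ((CochainComplex.opEquivalence A).functor.map_injective h)

theorem exists_opM (g : opC L ⟶ opC K) : ∃ φ : K ⟶ L, opM φ = g := by
  obtain ⟨x, hx⟩ := (CochainComplex.opEquivalence A).functor.map_surjective g
  exact ⟨x.unop, hx⟩

theorem exists_opC_iso (M : CochainComplex Aᵒᵖ ℤ) :
    ∃ K : CochainComplex A ℤ, Nonempty (opC K ≅ M) :=
  ⟨((CochainComplex.opEquivalence A).functor.objPreimage M).unop,
    ⟨(CochainComplex.opEquivalence A).functor.objObjPreimageIso M⟩⟩

theorem isStrictlyLE_opC_iff (K : CochainComplex A ℤ) (a b : ℤ) (h : a + b = 0) :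
    (opC K).IsStrictlyLE b ↔ K.IsStrictlyGE a := by
  rw [CochainComplex.isStrictlyLE_iff, CochainComplex.isStrictlyGE_iff]
  constructor
  · intro H i hi
    have h1 : IsZero (op (K.X (- -i))) := H (-i) (by omega)
    rw [neg_neg] at h1
    exact h1.unop
  · intro H i hi
    exact (H (-i) (by omega)).op

theorem isStrictlyGE_opC_iff (K : CochainComplex A ℤ) (a b : ℤ) (h : a + b = 0) :
    (opC K).IsStrictlyGE a ↔ K.IsStrictlyLE b := by
  rw [CochainComplex.isStrictlyLE_iff, CochainComplex.isStrictlyGE_iff]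
  constructor
  · intro H i hi
    have h1 : IsZero (op (K.X (- -i))) := H (-i) (by omega)
    rw [neg_neg] at h1
    exact h1.unop
  · intro H i hi
    exact (H (-i) (by omega)).op

end ZeroMorphisms

variable [Abelian A] {K L : CochainComplex A ℤ}

theorem quasiIsoAt_opM_iff (φ : K ⟶ L) (n m : ℤ) (h : n + m = 0) :
    QuasiIsoAt (opM φ) n ↔ QuasiIsoAt φ m := by
  obtain rfl : m = -n := by omega
  rw [quasiIsoAt_iff' (opM φ) (n - 1) n (n + 1) (by simp) (by simp),
    quasiIsoAt_iff' φ (-(n + 1)) (-n) (-(n - 1)) (by simp; omega) (by simp; omega)]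
  exact ShortComplex.quasiIso_opMap_iff
    ((HomologicalComplex.shortComplexFunctor' A (ComplexShape.up ℤ) (-(n + 1)) (-n) (-(n - 1))).map φ)

theorem quasiIso_opM_iff (φ : K ⟶ L) : QuasiIso (opM φ) ↔ QuasiIso φ := by
  rw [quasiIso_iff, quasiIso_iff]
  constructor
  · intro h m
    exact (quasiIsoAt_opM_iff φ (-m) m (by omega)).1 (h _)
  · intro h n
    exact (quasiIsoAt_opM_iff φ n (-n) (by omega)).2 (h _)

end K235.OpCx
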