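import Mathlib.CategoryTheory.Triangulated.Pretriangulated
import Mathlib.CategoryTheory.Triangulated.Triangulated

/-!
# Vanishing of morphisms out of / into the stages of a Postnikov system
-/

set_option autoImplicit false
universe v u
open CategoryTheory CategoryTheory.Limits CategoryTheory.Pretriangulated

namespace K235.Postnikov

variable {D : Type u} [Category.{v} D] [Preadditive D] [HasZeroObject D] [HasShift D ℤ]
    [∀ n : ℤ, (shiftFunctor D n).Additive]

omit [HasZeroObject D] in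
/-- `Hom(X⟦a⟧, Y) = 0` implies `Hom(X, Y⟦b⟧) = 0` when `a + b = 0`. -/
theorem vanish_right {X Y : D} {a b : ℤ} (hab : a + b = 0)
    (h : ∀ ψ : (shiftFunctor D a).obj X ⟶ Y, ψ = 0) (ψ : X ⟶ (shiftFunctor D b).obj Y) : ψ = 0 := by
  apply (shiftFunctor D a).map_injective
  have e := (shiftFunctorCompIsoId D b a (by omega)).app Y
  rw [Functor.map_zero]
  change (shiftFunctor D b ⋙ shiftFunctor D a).obj Y ≅ Y at e
  have h1 : (shiftFunctor D a).map ψ ≫ e.hom = 0 := h _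
  rw [← cancel_mono e.hom]
  exact h1.trans zero_comp.symm

omit [HasZeroObject D] in
/-- `Hom(X, Y⟦b⟧) = 0` implies `Hom(X⟦a⟧, Y) = 0` when `a + b = 0`. -/
theorem vanish_left {X Y : D} {a b : ℤ} (hab : a + b = 0)
    (h : ∀ ψ : X ⟶ (shiftFunctor D b).obj Y, ψ = 0) (ψ : (shiftFunctor D a).obj X ⟶ Y) : ψ = 0 := by
  apply (shiftFunctor D b).map_injective
  have e := (shiftFunctorCompIsoId D a b hab).app X
  rw [Functor.map_zero]
  change (shiftFunctor D a ⋙ shiftFunctor D b).obj X ≅ X at e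
  have h1 : e.inv ≫ (shiftFunctor D b).map ψ = 0 := h _
  rw [← cancel_epi e.inv]
  exact h1.trans comp_zero.symm

variable [Pretriangulated D]

/-- Exactness at `A⟦1⟧` (maps out of), for a distinguished triangle `A ⟶ B ⟶ C ⟶ A⟦1⟧`, in
unshifted form. -/
theorem exists_of_comp_shift_eq_zero {A B C T : D} (f : A ⟶ B) (g : B ⟶ C)
    (h : C ⟶ (shiftFunctor D (1 : ℤ)).obj A) (hT : Triangle.mk f g h ∈ distinguishedTriangles)
    (w : A ⟶ T) (hw : h ≫ (shiftFunctor D (1 : ℤ)).map w = 0) : ∃ u : B ⟶ T, w = f ≫ u := by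
  obtain ⟨g', hg'⟩ := (Triangle.mk f g h).rotate.yoneda_exact₃ (rot_of_distTriang _ hT)
    ((shiftFunctor D (1 : ℤ)).map w) hw
  change (shiftFunctor D (1 : ℤ)).obj B ⟶ (shiftFunctor D (1 : ℤ)).obj T at g'
  change (shiftFunctor D (1 : ℤ)).map w = (-(shiftFunctor D (1 : ℤ)).map f) ≫ g' at hg'
  obtain ⟨u, hu⟩ := (shiftFunctor D (1 : ℤ)).map_surjective g'
  refine ⟨-u, ?_⟩
  apply (shiftFunctor D (1 : ℤ)).map_injective
  rw [hg', ← hu, Functor.map_comp, Functor.map_neg, Preadditive.neg_comp, Preadditive.comp_neg]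

/-- Exactness at `A⟦1⟧` (maps into), for a distinguished triangle `A ⟶ B ⟶ C ⟶ A⟦1⟧`. -/
theorem exists_lift_shift {A B C S : D} (f : A ⟶ B) (g : B ⟶ C)
    (h : C ⟶ (shiftFunctor D (1 : ℤ)).obj A) (hT : Triangle.mk f g h ∈ distinguishedTriangles)
    (w : S ⟶ A) (hw : w ≫ f = 0) :
    ∃ u : (shiftFunctor D (1 : ℤ)).obj S ⟶ C, (shiftFunctor D (1 : ℤ)).map w = u ≫ h := by
  have h1 : (shiftFunctor D (1 : ℤ)).map w ≫ (-(shiftFunctor D (1 : ℤ)).map f) = 0 := by
    rw [Preadditive.comp_neg, ← Functor.map_comp, hw, Functor.map_zero, neg_zero]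
  obtain ⟨g', hg'⟩ := (Triangle.mk f g h).rotate.coyoneda_exact₃ (rot_of_distTriang _ hT)
    ((shiftFunctor D (1 : ℤ)).map w) h1
  exact ⟨g', hg'⟩

/-- Morphisms out of the stages of a Postnikov system vanish if the morphisms out of the (shifted)
terms of the complex do. -/
theorem hom_eq_zero_of_terms (X : ℕ → D) (n : ℕ)
    (Y : ℕ → D) (a : ∀ k, Y k ⟶ X k) (b : ∀ k, X (k + 1) ⟶ Y k)
    (c : ∀ k, Y k ⟶ (shiftFunctor D (1 : ℤ)).obj (Y (k + 1))) (h0 : IsIso (a 0))
    (hP : ∀ k, k < n → Triangle.mk (a (k + 1)) (b k) (c k) ∈ distinguishedTriangles) (T : D) (k : ℕ) :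
    ∀ (_ : k ≤ n) (s : ℤ) (_ : ∀ (m : ℕ) (t : ℤ), m ≤ k → t = s + ((k : ℤ) - m) →
      ∀ ψ : X m ⟶ (shiftFunctor D t).obj T, ψ = 0) (ψ : Y k ⟶ (shiftFunctor D s).obj T), ψ = 0 := by
  induction k with
  | zero =>
    intro _ s h ψ
    have := h 0 s le_rfl (by simp) (inv (a 0) ≫ ψ)
    rw [← IsIso.hom_inv_id_assoc (a 0) ψ, this, comp_zero]
  | succ k ih =>
    intro hk s h ψ
    have e := (shiftFunctorAdd D s 1).app T
    change (shiftFunctor D (s + 1)).obj T ≅
      (shiftFunctor D (1 : ℤ)).obj ((shiftFunctor D s).obj T) at e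
    have h1 : c k ≫ (shiftFunctor D (1 : ℤ)).map ψ = 0 := by
      have h2 : (c k ≫ (shiftFunctor D (1 : ℤ)).map ψ) ≫ e.inv = 0 := by
        refine ih (by omega) (s + 1) ?_ _
        intro m t hm ht ψ'
        exact h m t (by omega) (by rw [ht]; push_cast; omega) ψ'
      rw [← cancel_mono e.inv]
      exact h2.trans zero_comp.symm
    obtain ⟨u, hu⟩ := exists_of_comp_shift_eq_zero _ _ _ (hP k (by omega)) ψ h1
    rw [hu, h (k + 1) s le_rfl (by push_cast; omega) u, comp_zero]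

/-- Morphisms into the stages of a Postnikov system vanish if the morphisms into the (shifted)
terms of the complex do. -/
theorem hom_eq_zero_of_terms' (X : ℕ → D) (n : ℕ)
    (Y : ℕ → D) (a : ∀ k, Y k ⟶ X k) (b : ∀ k, X (k + 1) ⟶ Y k)
    (c : ∀ k, Y k ⟶ (shiftFunctor D (1 : ℤ)).obj (Y (k + 1))) (h0 : IsIso (a 0))
    (hP : ∀ k, k < n → Triangle.mk (a (k + 1)) (b k) (c k) ∈ distinguishedTriangles) (S : D) (k : ℕ) :
    ∀ (_ : k ≤ n) (s : ℤ) (_ : ∀ (m : ℕ) (t : ℤ), m ≤ k → t = s + ((k : ℤ) - m) →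
      ∀ ψ : (shiftFunctor D t).obj S ⟶ X m, ψ = 0) (ψ : (shiftFunctor D s).obj S ⟶ Y k), ψ = 0 := by
  induction k with
  | zero =>
    intro _ s h ψ
    have := h 0 s le_rfl (by simp) (ψ ≫ a 0)
    rw [← Category.comp_id ψ, ← IsIso.hom_inv_id (a 0), ← Category.assoc, this, zero_comp]
  | succ k ih =>
    intro hk s h ψ
    have h1 : ψ ≫ a (k + 1) = 0 := h (k + 1) s le_rfl (by push_cast; omega) _
    obtain ⟨u, hu⟩ := exists_lift_shift _ _ _ (hP k (by omega)) ψ h1
    have e := (shiftFunctorAdd D s 1).app S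
    change (shiftFunctor D (s + 1)).obj S ≅
      (shiftFunctor D (1 : ℤ)).obj ((shiftFunctor D s).obj S) at e
    have h2 : e.hom ≫ u = 0 := by
      refine ih (by omega) (s + 1) ?_ _
      intro m t hm ht ψ'
      exact h m t (by omega) (by rw [ht]; push_cast; omega) ψ'
    have h3 : u = 0 := by
      rw [← cancel_epi e.hom]
      exact h2.trans comp_zero.symm
    apply (shiftFunctor D (1 : ℤ)).map_injective
    rw [hu, h3, zero_comp, Functor.map_zero]

end K235.Postnikov
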