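import Groth.Agent.Cohder.MapExtend
import Mathlib.Algebra.Homology.DerivedCategory.RightDerivedFunctorPlus
import Mathlib.CategoryTheory.Abelian.RightDerived
import Mathlib.CategoryTheory.Abelian.Injective.Extend

/-!
# The unit of the bounded below right derived functor on objects of the abelian category

`F(X)[0] ⟶ RF(X[0])` is an isomorphism iff `F(X) ⟶ R⁰F(X)` is an isomorphism and
`RⁱF(X) = 0` for `i > 0`.
-/

set_option autoImplicit false

universe w w' v v' u u'

open CategoryTheory Category Limits HomologicalComplex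

namespace K235.RDPlusUnit

variable {A : Type u} [Category.{v} A] [Abelian A] {B : Type u'} [Category.{v'} B] [Abelian B]
  (F : A ⥤ B) [F.Additive]

section

variable {X : A} (R : InjectiveResolution X)

lemma comp_d : F.map (R.ι.f 0) ≫ F.map (R.cocomplex.d 0 1) = 0 := by
  rw [← F.map_comp, R.ι_f_zero_comp_complex_d, F.map_zero]

lemma quasiIsoAt_zero_iff :
    QuasiIsoAt ((F.mapHomologicalComplex (ComplexShape.up ℕ)).map R.ι) 0 ↔
      IsIso (R.toRightDerivedZero' F) := by
  rw [CochainComplex.quasiIsoAt₀_iff, ShortComplex.quasiIso_iff_of_zeros]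
  · exact (CochainComplex.isIso_liftCycles_iff
      ((F.mapHomologicalComplex (ComplexShape.up ℕ)).obj R.cocomplex) (F.map (R.ι.f 0))
      (comp_d F R)).symm
  · exact F.map_zero _ _
  · exact F.map_zero _ _
  · exact HomologicalComplex.shape ((F.mapHomologicalComplex _).obj R.cocomplex) 0 0 (by simp)

lemma quasiIsoAt_succ_iff [HasInjectiveResolutions A] (n : ℕ) :
    QuasiIsoAt ((F.mapHomologicalComplex (ComplexShape.up ℕ)).map R.ι) (n + 1) ↔
      IsZero ((F.rightDerived (n + 1)).obj X) := by
  have hz : IsZero (((F.mapHomologicalComplex (ComplexShape.up ℕ)).obj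
      ((CochainComplex.single₀ A).obj X)).X (n + 1)) :=
    F.map_isZero (HomologicalComplex.isZero_single_obj_X _ _ _ _ (by simp))
  have hex : ((F.mapHomologicalComplex (ComplexShape.up ℕ)).obj
      ((CochainComplex.single₀ A).obj X)).ExactAt (n + 1) :=
    ShortComplex.exact_of_isZero_X₂ _ hz
  rw [quasiIsoAt_iff_exactAt _ _ hex, HomologicalComplex.exactAt_iff_isZero_homology]
  exact (R.isoRightDerivedObj F (n + 1)).symm.isZero_iff

lemma quasiIso_map_ι_iff [HasInjectiveResolutions A] :
    QuasiIso ((F.mapHomologicalComplex (ComplexShape.up ℕ)).map R.ι) ↔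
      (IsIso (R.toRightDerivedZero' F) ∧ ∀ i : ℕ, 0 < i → IsZero ((F.rightDerived i).obj X)) := by
  rw [quasiIso_iff]
  constructor
  · intro h
    refine ⟨(quasiIsoAt_zero_iff F R).1 (h 0), fun i hi => ?_⟩
    obtain ⟨i, rfl⟩ : ∃ j, i = j + 1 := ⟨i - 1, by lia⟩
    exact (quasiIsoAt_succ_iff F R i).1 (h (i + 1))
  · rintro ⟨h0, h⟩ i
    cases i with
    | zero => exact (quasiIsoAt_zero_iff F R).2 h0
    | succ i => exact (quasiIsoAt_succ_iff F R i).2 (h (i + 1) (by lia))

lemma quasiIso_map_ι'_iff :
    QuasiIso ((F.mapHomologicalComplex (ComplexShape.up ℤ)).map R.ι') ↔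
      QuasiIso ((F.mapHomologicalComplex (ComplexShape.up ℕ)).map R.ι) := by
  have h1 := Groth.Agent.Cohder.MapExtend.mapExtendIso_hom_naturality F
    ComplexShape.embeddingUpNat R.ι
  have h2 : (F.mapHomologicalComplex (ComplexShape.up ℤ)).map R.ι' =
      (F.mapHomologicalComplex (ComplexShape.up ℤ)).map
        (HomologicalComplex.extendSingleIso ComplexShape.embeddingUpNat X 0 0 (by simp)).inv ≫
      (F.mapHomologicalComplex (ComplexShape.up ℤ)).map
        (extendMap R.ι ComplexShape.embeddingUpNat) :=
    (F.mapHomologicalComplex (ComplexShape.up ℤ)).map_comp _ _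
  rw [h2]
  refine (quasiIso_iff_comp_left ((F.mapHomologicalComplex (ComplexShape.up ℤ)).map
        (HomologicalComplex.extendSingleIso ComplexShape.embeddingUpNat X 0 0 (by simp)).inv)
      ((F.mapHomologicalComplex (ComplexShape.up ℤ)).map
        (extendMap R.ι ComplexShape.embeddingUpNat))).trans ?_
  rw [← quasiIso_iff_comp_right _
    (Groth.Agent.Cohder.MapExtend.mapExtendIso F R.cocomplex ComplexShape.embeddingUpNat).hom, h1,
    quasiIso_iff_comp_left, quasiIso_extendMap_iff]

lemma isIso_toRightDerivedZero_app_iff [HasInjectiveResolutions A] :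
    IsIso (F.toRightDerivedZero.app X) ↔ IsIso (R.toRightDerivedZero' F) := by
  rw [R.toRightDerivedZero_eq F]
  constructor
  · intro h
    exact IsIso.of_isIso_comp_right (R.toRightDerivedZero' F)
      ((CochainComplex.isoHomologyπ₀ _).hom ≫ (R.isoRightDerivedObj F 0).inv)
  · intro h
    infer_instance

end

variable [HasDerivedCategory.{w} A] [HasDerivedCategory.{w'} B] [EnoughInjectives A]

/-- the unit `F(X)[0] ⟶ RF(X[0])` is an isomorphism iff `F(X)[0] ⟶ F(I)` is a
quasi-isomorphism, for an injective resolution `I` of `X` -/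
lemma isIso_unit_iff_quasiIso {X : A} (R : InjectiveResolution X) :
    IsIso (F.rightDerivedFunctorPlusUnit.app ((HomotopyCategory.Plus.singleFunctor A 0).obj X)) ↔
      QuasiIso ((F.mapHomologicalComplex (ComplexShape.up ℤ)).map R.ι') := by
  let S : HomotopyCategory.Plus A := (HomotopyCategory.Plus.singleFunctor A 0).obj X
  let J : HomotopyCategory.Plus A := (HomotopyCategory.Plus.quotient A).obj
    ⟨R.cochainComplex, 0, inferInstance⟩
  have : ∀ n, Injective (J.obj.as.X n) :=
    fun n => inferInstanceAs (Injective (R.cochainComplex.X n))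
  let t : S ⟶ J := ObjectProperty.homMk ((HomotopyCategory.quotient _ _).map R.ι')
  have ht : HomotopyCategory.Plus.quasiIso A t :=
    (HomotopyCategory.quotient_map_mem_quasiIso_iff R.ι').2
      ((HomologicalComplex.mem_quasiIso_iff _).2 inferInstance)
  let α := F.rightDerivedFunctorPlusUnit
  have hα : IsIso (α.app J) := inferInstance
  have h2 := α.naturality t
  have h5 : IsIso ((DerivedCategory.Plus.Qh ⋙ F.rightDerivedFunctorPlus).map t) := by
    have := Localization.inverts DerivedCategory.Plus.Qh (HomotopyCategory.Plus.quasiIso A) _ ht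
    rw [Functor.comp_map]
    infer_instance
  have h6 : IsIso (α.app S) ↔ IsIso ((F.mapHomotopyCategoryPlus ⋙ DerivedCategory.Plus.Qh).map t) := by
    constructor
    · intro h
      have : IsIso ((F.mapHomotopyCategoryPlus ⋙ DerivedCategory.Plus.Qh).map t ≫ α.app J) := by
        rw [h2]; infer_instance
      exact IsIso.of_isIso_comp_right _ (α.app J)
    · intro h
      have : IsIso (α.app S ≫ (DerivedCategory.Plus.Qh ⋙ F.rightDerivedFunctorPlus).map t) := by
        rw [← h2]; infer_instance
      exact IsIso.of_isIso_comp_right _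
        ((DerivedCategory.Plus.Qh ⋙ F.rightDerivedFunctorPlus).map t)
  refine h6.trans ?_
  have h7 : IsIso ((F.mapHomotopyCategoryPlus ⋙ DerivedCategory.Plus.Qh).map t) ↔
      IsIso (DerivedCategory.Qh.map ((HomotopyCategory.quotient _ _).map
        ((F.mapHomologicalComplex (ComplexShape.up ℤ)).map R.ι'))) := by
    rw [← isIso_iff_of_reflects_iso _ DerivedCategory.Plus.ι]
    exact Iff.rfl
  rw [h7, DerivedCategory.isIso_Qh_map_iff, HomotopyCategory.quotient_map_mem_quasiIso_iff,
    HomologicalComplex.mem_quasiIso_iff]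

end K235.RDPlusUnit
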