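import Groth.Agent.CohDer.K235.OpCx
import Groth.Agent.Cohder.LeftResRel

/-!
# Relative right resolutions

`exists_factorization`: a morphism `f : L ⟶ Q` of bounded below complexes, where `Q` has terms in a
class `I` (closed under isomorphisms and binary products, containing a zero object, and such that
every object embeds into an object of `I`), factors as a termwise injective quasi-isomorphism
followed by a termwise split surjection with termwise kernels in `I` from a bounded below complex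
with terms in `I`.  Obtained by dualising `Groth.Agent.Cohder.LeftRes.exists_factorization`.
-/

set_option autoImplicit false
universe v u
open CategoryTheory CategoryTheory.Limits Opposite

namespace K235.RightResRel

open K235.OpCx

variable {A : Type u} [Category.{v} A] [Abelian A]

theorem exists_factorization (I : ObjectProperty A) [I.IsClosedUnderIsomorphisms]
    (hI0 : ∃ Z : A, IsZero Z ∧ I Z) (hIprod : ∀ X Y : A, I X → I Y → I (X ⊞ Y))
    (hI : ∀ X : A, ∃ (Y : A) (ι : X ⟶ Y), I Y ∧ Mono ι)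
    {L Q : CochainComplex A ℤ} (f : L ⟶ Q) (a : ℤ) [L.IsStrictlyGE a] [Q.IsStrictlyGE a]
    (hQ : ∀ i, I (Q.X i)) :
    ∃ (Q' : CochainComplex A ℤ) (π : L ⟶ Q') (p : Q' ⟶ Q), π ≫ p = f ∧
      Q'.IsStrictlyGE a ∧ (∀ i, I (Q'.X i)) ∧ QuasiIso π ∧ (∀ i, Mono (π.f i)) ∧
      (∀ i, (∃ s : Q.X i ⟶ Q'.X i, s ≫ p.f i = 𝟙 _) ∧ I (kernel (p.f i))) := by
  choose Y ι hY hι using hI
  let C : Groth.Agent.Cohder.LeftRes.Cover I.op :=
    { obj := fun X => op (Y X.unop)
      π := fun X => (ι X.unop).op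
      prop := fun X => hY X.unop
      epi := fun X => inferInstance }
  have hP0 : ∃ Z : Aᵒᵖ, IsZero Z ∧ I.op Z := by
    obtain ⟨Z, hZ, hZ'⟩ := hI0
    exact ⟨op Z, hZ.op, hZ'⟩
  have hPsum : ∀ X Y : Aᵒᵖ, I.op X → I.op Y → I.op (X ⊞ Y) := by
    intro X Y hX hY
    exact I.prop_of_iso (biprod.opIso X.unop Y.unop).symm.unop (hIprod _ _ hX hY)
  have : (opC Q).IsStrictlyLE (-a) := (isStrictlyLE_opC_iff Q a (-a) (by omega)).2 inferInstance
  have : (opC L).IsStrictlyLE (-a) := (isStrictlyLE_opC_iff L a (-a) (by omega)).2 inferInstance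
  obtain ⟨Q'', ι', π', h1, h2, h3, h4, h5, h6⟩ :=
    Groth.Agent.Cohder.LeftRes.exists_factorization C hP0 hPsum (opM f) (-a) (fun i => hQ (-i))
  obtain ⟨Q', ⟨e⟩⟩ := exists_opC_iso Q''
  obtain ⟨p, hp⟩ := exists_opM (ι' ≫ e.inv)
  obtain ⟨π, hπ⟩ := exists_opM (e.hom ≫ π')
  refine ⟨Q', π, p, ?_, ?_, ?_, ?_, ?_, ?_⟩
  · apply opM_injective
    rw [opM_comp, hp, hπ, Category.assoc, e.inv_hom_id_assoc, h1]
  · rw [← isStrictlyLE_opC_iff Q' a (-a) (by omega)]
    exact CochainComplex.isStrictlyLE_of_iso e.symm _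
  · intro i
    obtain ⟨i, rfl⟩ : ∃ j, i = -j := ⟨-i, by simp⟩
    have e' : (opC Q').X i ≅ Q''.X i := (HomologicalComplex.eval _ _ i).mapIso e
    exact I.prop_of_iso e'.unop (h3 i)
  · rw [← quasiIso_opM_iff, hπ]
    infer_instance
  · intro i
    obtain ⟨i, rfl⟩ : ∃ j, i = -j := ⟨-i, by simp⟩
    have h7 : (π.f (-i)).op = e.hom.f i ≫ π'.f i := by
      rw [← HomologicalComplex.comp_f, ← hπ]
      rfl
    have h8 : Epi (e.hom.f i ≫ π'.f i) := by
      have := h5 i
      infer_instance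
    have h9 : Epi (π.f (-i)).op := by
      rw [h7]
      exact h8
    exact unop_mono_of_epi (π.f (-i)).op
  · intro i
    obtain ⟨i, rfl⟩ : ∃ j, i = -j := ⟨-i, by simp⟩
    have h7 : (p.f (-i)).op = ι'.f i ≫ e.inv.f i := by
      rw [← HomologicalComplex.comp_f, ← hp]
      rfl
    obtain ⟨⟨r, hr⟩, h8⟩ := h6 i
    constructor
    · refine ⟨(e.hom.f i ≫ r).unop, ?_⟩
      apply Quiver.Hom.op_inj
      change (p.f (-i)).op ≫ e.hom.f i ≫ r = 𝟙 _
      have h9 : e.inv.f i ≫ e.hom.f i = 𝟙 _ := by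
        rw [← HomologicalComplex.comp_f, e.inv_hom_id, HomologicalComplex.id_f]
      rw [h7]
      refine (Category.assoc _ _ _).trans ?_
      refine (congrArg (ι'.f i ≫ ·) ((Category.assoc _ _ _).symm.trans (congrArg (· ≫ r) h9))).trans ?_
      refine (congrArg (ι'.f i ≫ ·) (Category.id_comp r)).trans hr
    · have h9 : I.op (cokernel (p.f (-i)).op) := by
        rw [h7]
        exact I.op.prop_of_iso (cokernelCompIsIso (ι'.f i) (e.inv.f i)).symm h8
      exact I.prop_of_iso (cokernelOpUnop (p.f (-i))) h9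

end K235.RightResRel
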