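import Mathlib.CategoryTheory.Triangulated.Pretriangulated
import Mathlib.CategoryTheory.Triangulated.Triangulated

/-!
# Complements of split monomorphisms in pretriangulated categories

`exists_complement`: if `c : A ⟶ X` has a retraction `s` in a pretriangulated category, then there are
an object `Z`, maps `q : X ⟶ Z`, `σ : Z ⟶ X` making `X` the direct sum of `A` and `Z` with
inclusions `c, σ` and projections `s, q`.
-/

set_option autoImplicit false
universe v u
open CategoryTheory CategoryTheory.Limits CategoryTheory.Pretriangulated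

namespace K235.SplitTri

variable {D : Type u} [Category.{v} D] [Preadditive D] [HasZeroObject D] [HasShift D ℤ]
    [∀ n : ℤ, (shiftFunctor D n).Additive] [Pretriangulated D]

/-- A split monomorphism with a chosen retraction has a complement. -/
theorem exists_complement {A X : D} (c : A ⟶ X) (s : X ⟶ A) (h : c ≫ s = 𝟙 A) :
    ∃ (Z : D) (q : X ⟶ Z) (σ : Z ⟶ X), c ≫ q = 0 ∧ σ ≫ s = 0 ∧ σ ≫ q = 𝟙 Z ∧
      s ≫ c + q ≫ σ = 𝟙 X := by
  obtain ⟨Z, q, d, hT⟩ := distinguished_cocone_triangle c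
  have hc : c ≫ q = 0 := comp_distTriang_mor_zero₁₂ _ hT
  have hd : d = 0 := by
    have h1 : d ≫ (shiftFunctor D (1 : ℤ)).map c = 0 := comp_distTriang_mor_zero₃₁ _ hT
    have h2 := congrArg (· ≫ (shiftFunctor D (1 : ℤ)).map s) h1
    rw [Category.assoc, ← Functor.map_comp, h, CategoryTheory.Functor.map_id, Category.comp_id, zero_comp] at h2
    exact h2
  have : Epi q := (Triangle.mk c q d).epi₂ hT hd
  have := isSplitEpi_of_epi q
  set σ₀ := section_ q with hσ₀
  have hσq : σ₀ ≫ q = 𝟙 Z := IsSplitEpi.id q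
  obtain ⟨t, ht⟩ := (Triangle.mk c q d).coyoneda_exact₂ hT (𝟙 X - q ≫ σ₀)
    (by
      change (𝟙 X - q ≫ σ₀) ≫ q = 0
      rw [Preadditive.sub_comp, Category.id_comp, Category.assoc, hσq, Category.comp_id, sub_self])
  change X ⟶ A at t
  change 𝟙 X - q ≫ σ₀ = t ≫ c at ht
  have hid : t ≫ c + q ≫ σ₀ = 𝟙 X := by rw [← ht]; abel
  have hs : s = t + q ≫ σ₀ ≫ s := by
    have := congrArg (· ≫ s) hid
    rw [Preadditive.add_comp, Category.assoc, h, Category.comp_id, Category.id_comp, Category.assoc] at this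
    exact this.symm
  refine ⟨Z, q, σ₀ - σ₀ ≫ s ≫ c, hc, ?_, ?_, ?_⟩
  · rw [Preadditive.sub_comp, Category.assoc, Category.assoc, h, Category.comp_id, sub_self]
  · rw [Preadditive.sub_comp, hσq, Category.assoc, Category.assoc, hc, comp_zero, comp_zero, sub_zero]
  · have h3 : s ≫ c = t ≫ c + q ≫ σ₀ ≫ s ≫ c := by
      conv_lhs => rw [hs]
      rw [Preadditive.add_comp, Category.assoc, Category.assoc]
    have h4 : s ≫ c + q ≫ (σ₀ - σ₀ ≫ s ≫ c) = s ≫ c + (q ≫ σ₀ - q ≫ σ₀ ≫ s ≫ c) := by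
      rw [Preadditive.comp_sub]
    rw [h4, ← hid]
    generalize q ≫ σ₀ ≫ s ≫ c = u at *
    rw [h3]
    abel

end K235.SplitTri
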